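import Cfsg.Agent.Fischer.Enum.I14080Chk0
import Cfsg.Agent.Fischer.Enum.I14080Chk1
import Cfsg.Agent.Fischer.Enum.I14080Chk2
import Cfsg.Agent.Fischer.Enum.I14080Chk3
import Cfsg.Agent.Fischer.Enum.I14080Chk4
import Cfsg.Agent.Fischer.Enum.I14080Chk5

set_option autoImplicit false
set_option maxRecDepth 100000

namespace Cfsg.Agent.Fischer.Enum.I14080All

open Cfsg.Agent.SporadicRecognition.CosetCert Cfsg.Agent.Fischer.Enum.I14080Data

theorem part : Part C 0 C.N 14080 := (((((Cfsg.Agent.Fischer.Enum.I14080Chk0.all).append C Cfsg.Agent.Fischer.Enum.I14080Chk1.all).append C Cfsg.Agent.Fischer.Enum.I14080Chk2.all).append C Cfsg.Agent.Fischer.Enum.I14080Chk3.all).append C Cfsg.Agent.Fischer.Enum.I14080Chk4.all).append C Cfsg.Agent.Fischer.Enum.I14080Chk5.all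

end Cfsg.Agent.Fischer.Enum.I14080All
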