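import Cfsg.Agent.SporadicRecognition.CosetCert

set_option autoImplicit false
set_option maxRecDepth 100000

namespace Cfsg.Agent.Fischer.Enum.I120Data

open Cfsg.Agent.SporadicRecognition.CosetCert

noncomputable def tree : Tr := (.N 64 (.N 32 (.N 16 (.L 0xffff302112862e20299e2ffff2b1f291e120910860ffff269c0f85281d19942ffff0e84261c249b17933ffff241b1f970d84231a1ffff0b8322190d051d963ffff21180a831f171b952ffff1d161b15118f09830ffff07821914149109053ffff17130582161207042ffff141113100482110f1ffff0381100e0c8b08883ffff0f0d02810e0c06872ffff0c0b0b0a01810a091ffff08080607050600810ffff0405030402030102f) (.L 0xffff55362f122d9053351ffff2a8f51342d162c113ffff4f33288f4d322a102ffff4ab045ad278e4c311ffff270e258d4a3036a52ffff238c492f250d47ae3ffff472e3faa32a3228c0ffff43ac218b452d3da92ffff208a432c41ab3ba83ffff412b200c1e8a3f2a1ffff1c893d292c9f1e0b3ffff3b281a893a271c0a2ffff37a5188839261a0e2ffff1687362534a4180d3ffff34242ea0158732231ffff1386312215082b9f3))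 (.N 48 (.L 0xffff4b1d75c6499c77471ffff6dc2489b754673c52ffff469a73455cb9481b3ffff6fc3461d449971441ffff441942986f4367bf2ffff40976d4242186bc13ffff6b41401a63bd3e970ffff68bf3c966a403e192ffff3a95673f65be3c183ffff653e4db23995633d1ffff5fbb59b83894613c1ffff381435935f3b371c2ffff33925e3a35135bb93ffff5b3953b5331a31920ffff57b73091593851b42ffff2f90573755b64fb33) (.L 0xffff96d581cb69a998561ffff692966a89655682c2ffff64a79554662892d33ffff925379c8642a62a70ffff8fd289cf623160a60ffff60268dd15ea58f521ffff85cd5da48d518bd02ffff5aa38b505d2e5c243ffff87ce5a2658a2894f1ffff582256a1874e7eca2ffff54a0854d562183cc3ffff834c54237ac852a00ffff7fca509f814b52222ffff4e9e7e4a7cc950213ffff7c494e274c9e79481ffff77c771c461bc4b9d0))) (.N 96 (.N 80 (.L 0xffffb0e08ab9b7638c3a2ffffb5e28a3caddf88b80ffff8838b3e186b7b5621ffff863a84b6b261afe02ffff82b5af60a6dc84363ffffaade824080b4ac5f1ffff80347db3aa5e7f372ffff7bb2a85d7d33a5dc3ffffa55c7a3d7b3578b20ffff7831a3db90d276b00ffff9dd8763074afa35b1ffff9bd772aea25a742f2ffffa0d9723198d670ad0ffff702d9ed86eaca0591ffff6e2f6cab9d589ad72ffff6aaa9a5793d36c2b3)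 (.L 0xffffb150aeccd26eb04d2ffffcfedad56ae4fabcb0ffffab4bcdeca9cacf6d1ffffa954a7c9cc6cc9eb2ffffa4c8c96ba74ca6493ffffc5e9a447c7eaa2c60ffffc2e8b7e3a1c5c76a1ffffa144c4e9c0e79fc30ffff9e469f439cc2c4691ffff9c4599c1c2689b422ffffbfe7acdf994497c00ffff9740bde695bfbf671ffffa8dd94bebd66bbe52ffff91bdbb659441933e3ffff903cb9e491478ebb0ffffb2e18e3b8cbab9641)) (.N 112 (.L 0xffffe7f6d86ad964d6e30ffffd664d562e8f6d3e10ffffd363e2f4d1e0e7761ffffd05fe4f5d162cede0ffffcd66ce5ecbdde4751ffffcb65c8dce174ca5d2ffffdef3d7f0c85bc6da0ffffc65bc559dff3c3d80ffffc35adaf1c1d7de731ffffc056dcf2c159bed50ffffccecbe55bcd4dc721ffffcaebbad3da71bc542ffffd5efba52d8f0b8d10ffffd2eeb85ab6d0d7701ffffb64fd4efd0edb4ce0ffffb351b44eb1cdd46f1) (.L 0xffffef77ee76f075ecf40ffffeef8eb73ec72e9f10ffffe870edf8e96fe6ee0ffffe672e56deff8e3ec0ffffe271e36ee0ebed781ffffdf6aeaf7e069dde80ffffe5f5dd67ebf7dbe60ffffe1f4db68d9e5ea771))))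

noncomputable def wtree : WT := (.N 4 (.N 2 (.N 1 (.L 0 [2,0,2]) (.L 0 [3,0,3])) (.N 3 (.L 1 [3,1,3]) (.L 1 [0,1,0,1,0]))) (.N 6 (.N 5 (.L 2 [1,2,1,2,1]) (.L 3 [2,3,2,3,2])) (.N 7 (.L 2 [0,2,0]) (.N 8 (.L 3 [1,3,1]) (.L 3 [0,3,0])))))

noncomputable def stree : ST := (.L 4 [] [])

noncomputable def C : Cert where
  data := tree
  lm := 15
  rb := 84
  fb := 16
  mask := 65535
  B := 128
  k := 4
  N := 120
  inv := fun x => x
  words := wtree
  subs := stree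

def rels : List (List Nat) := [[0,2,0,2], [0,3,0,3], [1,3,1,3], [0,1,0,1,0,1], [1,2,1,2,1,2], [2,3,2,3,2,3]]

def subw : List (List Nat) := []

end Cfsg.Agent.Fischer.Enum.I120Data
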