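import Cfsg.Agent.Fischer.Enum.I16Data

set_option autoImplicit false
set_option maxRecDepth 100000

namespace Cfsg.Agent.Fischer.Enum.I16Chk0

open Cfsg.Agent.SporadicRecognition.CosetCert Cfsg.Agent.Fischer.Enum.I16Data

theorem c0 : Part C 0 16 16 := runChunk_sound C 16 (by decide +kernel : runChunk C 9 511 0x4180526d33990c0401718cc022301008060111c0c26020144cc6019180447030980c04f300808040279805c6334180404d30120c0202011cd660251b0c028300a4da67329808c6010110c0401010cc02230104c06021a8942a05 1 1 0 0 16 = 17)

theorem all : Part C 0 16 16 := c0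

end Cfsg.Agent.Fischer.Enum.I16Chk0
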