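import Cfsg.Agent.SporadicRecognition.CosetCert

set_option autoImplicit false
set_option maxRecDepth 100000

namespace Cfsg.Agent.Fischer.Enum.I16Data

open Cfsg.Agent.SporadicRecognition.CosetCert

noncomputable def tree : Tr := (.L 0xfff9f096fa109d09b03fff94f9908ce92f90f2fff80c8ae8ef88d84e4fff74a7cd7ed86e7ab4fff82e6ec72c6aa70c1fff60966b68b64b78d4fff76d5ea5686cc5c92fff62b5494e75295aa2fff4c842658a4a84873fff4073845093e54683fff3464483263662e40fff2a52432c53c72853fff2043a72241c33061fff1a32651421e41832fff0a11221631020e24fff0c2081061041021f)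

noncomputable def wtree : WT := (.N 9 (.N 4 (.N 2 (.N 1 (.L 0 [4,0,4]) (.L 1 [4,1,4])) (.N 3 (.L 3 [4,3,4]) (.L 0 [2,0,2]))) (.N 6 (.N 5 (.L 4 [2,4,2,4,2]) (.L 4 [1,4,1])) (.N 7 (.L 2 [1,2,1,2,1]) (.N 8 (.L 0 [3,0,3]) (.L 4 [3,4,3]))))) (.N 14 (.N 11 (.N 10 (.L 2 [3,2,3,2,3]) (.L 2 [0,2,0])) (.N 12 (.L 4 [0,4,0]) (.N 13 (.L 1 [0,1,0,1,0]) (.L 1 [3,1,3])))) (.N 16 (.N 15 (.L 1 [2,1,2,1,2]) (.L 3 [2,3,2,3,2])) (.N 17 (.L 2 [4,2,4,2,4]) (.N 18 (.L 3 [1,3,1]) (.L 0 [1,0,1,0,1]))))))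

noncomputable def stree : ST := (.N 2 (.N 1 (.L 0 [] []) (.L 1 [] [])) (.N 3 (.L 2 [] []) (.L 3 [] [])))

noncomputable def C : Cert where
  data := tree
  lm := 15
  rb := 76
  fb := 12
  mask := 4095
  B := 32
  k := 5
  N := 16
  inv := fun x => x
  words := wtree
  subs := stree

def rels : List (List Nat) := [[0,2,0,2], [0,3,0,3], [0,4,0,4], [1,3,1,3], [1,4,1,4], [3,4,3,4], [0,1,0,1,0,1], [1,2,1,2,1,2], [2,3,2,3,2,3], [2,4,2,4,2,4]]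

def subw : List (List Nat) := [[0], [1], [2], [3]]

end Cfsg.Agent.Fischer.Enum.I16Data
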