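import Cfsg.Agent.Fischer.Enum.I27Data

set_option autoImplicit false
set_option maxRecDepth 100000

namespace Cfsg.Agent.Fischer.Enum.I27Chk0

open Cfsg.Agent.SporadicRecognition.CosetCert Cfsg.Agent.Fischer.Enum.I27Data

theorem c0 : Part C 0 27 27 := runChunk_sound C 27 (by decide +kernel : runChunk C 9 511 0x3a74399c8ea601d1b0d66d30080b069351804048300c0c0402b1b8c020279c4ec6e3011cc03932990c030379c4ec6e30100404020980c6601e188c0403010094601b9a0c6601e188c26023180802020110c6601e188c26033180803932980b46c30134c03b33180803932990f0693010040402c1a4c0401b9a0c03037980ac60200c0de6020138c054399c8ea60100c0de713b1b8c04c359b4c02020124d46010120cc67300808a6431980404230980c8a021a8942a05 1 1 0 0 27 = 28)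

theorem all : Part C 0 27 27 := c0

end Cfsg.Agent.Fischer.Enum.I27Chk0
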