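import Cfsg.Agent.SporadicRecognition.CosetCert

set_option autoImplicit false
set_option maxRecDepth 100000

namespace Cfsg.Agent.Fischer.Enum.I27Data

open Cfsg.Agent.SporadicRecognition.CosetCert

noncomputable def tree : Tr := (.N 16 (.L 0xfffae41aa6aed6592db96607fff557a8b159ea8f537afc53ffe9ee5e8a5ad41cb504e61fffd21a8ed588253515692d1fffa1b149e80a446213135c7fff3f59f2d31c7494669ea8bffe72a37520b0d5070a3c597ffcb8e6893349dacc926285fff9414b505883651598c12bfff2f4931c94e48727391143ffe3842030f9884c5481e32fffca503451928d945c84671fff8e985482c41218c145085fff101888c3042640f1870cfffe162060868c28412208127ffc1420e20408184082021f) (.L 0x1fffa1dd06e7f73dba2dce683fff35a99d4c6a6f52d99dd8fffe57327994cc8625f52592fffc4da3f11d791cc6622f0bfff82a43d637111785bc25d7fff15881b3e5202cff67eb1fffdda50d77aabdd5e6af155fffc1ddc24fb6759b9d1ca89fff6e9b4c1be6e946d8b5cd3ffeef571a3449920cf266917ffd8a2bae638b0c5b26c0f4))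

noncomputable def wtree : WT := (.N 15 (.N 7 (.N 3 (.N 1 (.L 0 [4,0,4]) (.N 2 (.L 1 [4,1,4]) (.L 2 [4,2,4]))) (.N 5 (.N 4 (.L 5 [4,5,4]) (.L 0 [3,0,3])) (.N 6 (.L 1 [3,1,3]) (.L 5 [3,5,3])))) (.N 11 (.N 9 (.N 8 (.L 4 [3,4,3,4,3]) (.L 0 [2,0,2])) (.N 10 (.L 4 [2,4,2]) (.L 3 [2,3,2,3,2]))) (.N 13 (.N 12 (.L 3 [1,3,1]) (.L 4 [1,4,1])) (.N 14 (.L 2 [1,2,1,2,1]) (.L 0 [5,0,5]))))) (.N 22 (.N 18 (.N 16 (.L 3 [5,3,5]) (.N 17 (.L 4 [5,4,5]) (.L 2 [5,2,5,2,5]))) (.N 20 (.N 19 (.L 2 [0,2,0]) (.L 3 [0,3,0])) (.N 21 (.L 4 [0,4,0]) (.L 1 [0,1,0,1,0])))) (.N 26 (.N 24 (.N 23 (.L 1 [5,1,5]) (.L 1 [2,1,2,1,2])) (.N 25 (.L 5 [2,5,2,5,2]) (.L 2 [3,2,3,2,3]))) (.N 28 (.N 27 (.L 5 [1,5,1]) (.L 0 [1,0,1,0,1])) (.N 29 (.L 3 [4,3,4,3,4]) (.L 5 [0,5,0]))))))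

noncomputable def stree : ST := (.N 2 (.N 1 (.L 0 [] []) (.L 1 [] [])) (.N 3 (.L 2 [] []) (.N 4 (.L 3 [] []) (.L 5 [] []))))

noncomputable def C : Cert where
  data := tree
  lm := 15
  rb := 95
  fb := 13
  mask := 8191
  B := 32
  k := 6
  N := 27
  inv := fun x => x
  words := wtree
  subs := stree

def rels : List (List Nat) := [[0,2,0,2], [0,3,0,3], [0,4,0,4], [0,5,0,5], [1,3,1,3], [1,4,1,4], [1,5,1,5], [2,4,2,4], [3,5,3,5], [4,5,4,5], [0,1,0,1,0,1], [1,2,1,2,1,2], [2,3,2,3,2,3], [2,5,2,5,2,5], [3,4,3,4,3,4]]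

def subw : List (List Nat) := [[0], [1], [2], [3], [5]]

end Cfsg.Agent.Fischer.Enum.I27Data
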